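import Groth.Agent.CalgA.TwoGlue
import Mathlib.AlgebraicGeometry.Morphisms.Affine

/-!
# Cartesian squares over a quotient of the base ring from affine charts
-/

set_option autoImplicit false
universe u

open CategoryTheory CategoryTheory.Limits AlgebraicGeometry

namespace K130.Fib

theorem lift_apply {A B C : Type*} [CommRing A] [CommRing B] [CommRing C] (f : A →+* B) (hf : Function.Surjective f)
    (g : { g : A →+* C // RingHom.ker f ≤ RingHom.ker g }) (a : A) : RingHom.liftOfSurjective f hf g (f a) = g.1 a :=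
  RingHom.liftOfRightInverse_comp_apply f _ _ g a

/-- A square of commutative rings with surjective horizontal maps and generated kernels is a pushout. -/
theorem isPushout_of_surjective {R B k C : CommRingCat.{u}} (α : R ⟶ B) (φ : R ⟶ k) (β : B ⟶ C) (γ : k ⟶ C)
    (hφ : Function.Surjective φ.hom) (hβ : Function.Surjective β.hom) (w : α ≫ β = φ ≫ γ)
    (hk : RingHom.ker β.hom ≤ (RingHom.ker φ.hom).map α.hom) : IsPushout α φ β γ := by
  refine ⟨⟨w⟩, ⟨PushoutCocone.IsColimit.mk w (fun s => CommRingCat.ofHom (RingHom.liftOfSurjective β.hom hβ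
    ⟨s.inl.hom, ?_⟩)) ?_ ?_ ?_⟩⟩
  · refine hk.trans ?_
    rw [Ideal.map_le_iff_le_comap]
    intro r hr
    rw [Ideal.mem_comap, RingHom.mem_ker]
    have h1 := congrArg (fun q : R ⟶ s.pt => q.hom r) s.condition
    change s.inl.hom (α.hom r) = s.inr.hom (φ.hom r) at h1
    rw [h1, RingHom.mem_ker.1 hr, map_zero]
  · intro s
    apply CommRingCat.hom_ext
    apply RingHom.ext
    intro b
    exact lift_apply β.hom hβ _ b
  · intro s
    apply CommRingCat.hom_ext
    apply RingHom.ext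
    intro c
    obtain ⟨r, rfl⟩ := hφ c
    have h1 := congrArg (fun q : R ⟶ s.pt => q.hom r) s.condition
    change s.inl.hom (α.hom r) = s.inr.hom (φ.hom r) at h1
    have h2 := congrArg (fun q : R ⟶ C => q.hom r) w
    change β.hom (α.hom r) = γ.hom (φ.hom r) at h2
    change (RingHom.liftOfSurjective β.hom hβ _) (γ.hom (φ.hom r)) = s.inr.hom (φ.hom r)
    rw [← h1, ← h2]
    exact lift_apply β.hom hβ _ _
  · intro s m h1 h2
    apply CommRingCat.hom_ext
    apply RingHom.ext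
    intro c
    obtain ⟨b, rfl⟩ := hβ c
    have h3 := congrArg (fun q : B ⟶ s.pt => q.hom b) h1
    change m.hom (β.hom b) = s.inl.hom b at h3
    rw [h3]
    exact (lift_apply β.hom hβ ⟨s.inl.hom, _⟩ b).symm

/-- The local cartesian square. -/
theorem isPullback_local {X C : Scheme.{u}} {R k : CommRingCat.{u}} (φ : R ⟶ k) (p : X ⟶ Spec R) (g : C ⟶ Spec k)
    (j : C ⟶ X) [IsAffineHom j] (V : X.Opens) (hV : IsAffineOpen V) (α : R ⟶ Γ(X, V)) (γ : k ⟶ Γ(C, j ⁻¹ᵁ V))
    (hα : Spec.map α = hV.fromSpec ≫ p) (hγ : Spec.map γ = (hV.preimage j).fromSpec ≫ g)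
    (h : IsPushout α φ (j.app V) γ) :
    IsPullback (j ∣_ V) ((j ⁻¹ᵁ V).ι ≫ g) (V.ι ≫ p) (Spec.map φ) := by
  have hV' : IsAffineOpen (j ⁻¹ᵁ V) := hV.preimage j
  have h1 := isPullback_SpecMap_of_isPushout _ _ _ _ h
  have e1 : (j ∣_ V) ≫ hV.isoSpec.hom = hV'.isoSpec.hom ≫ Spec.map (j.app V) := by
    rw [← cancel_mono hV.fromSpec, Category.assoc, Category.assoc, hV.isoSpec_hom_fromSpec,
      morphismRestrict_ι]
    have := hV.SpecMap_appLE_fromSpec j hV' le_rfl
    rw [← Scheme.Hom.app_eq_appLE] at this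
    rw [this, hV'.isoSpec_hom_fromSpec_assoc]
  exact IsPullback.of_iso h1 hV'.isoSpec.symm hV.isoSpec.symm (Iso.refl _) (Iso.refl _)
      (by rw [Iso.symm_hom, Iso.symm_hom, ← cancel_epi hV'.isoSpec.hom, Iso.hom_inv_id_assoc, ← reassoc_of% e1,
        Iso.hom_inv_id, Category.comp_id])
      (by rw [Iso.symm_hom, Iso.refl_hom, Category.comp_id, hγ, ← hV'.isoSpec_inv_ι, Category.assoc])
      (by rw [Iso.refl_hom, Category.comp_id, Iso.symm_hom, hα, ← hV.isoSpec_inv_ι, Category.assoc])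
      (by simp)

theorem specMap_eq {X : Scheme.{u}} {R : CommRingCat.{u}} (p : X ⟶ Spec R) (V : X.Opens) (hV : IsAffineOpen V) :
    Spec.map ((Scheme.ΓSpecIso R).inv ≫ p.appLE ⊤ V le_top) = hV.fromSpec ≫ p := by
  have h1 := (isAffineOpen_top (Spec R)).SpecMap_appLE_fromSpec p hV le_top
  rw [IsAffineOpen.fromSpec_top, Scheme.isoSpec_Spec_inv] at h1
  rw [Spec.map_comp]
  exact h1

theorem isPullback_of_charts {X C : Scheme.{u}} {R k : Type u} [CommRing R] [Field k] (π : R →+* k)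
    (hπ : Function.Surjective π) (ϖ : R) (hker : RingHom.ker π = Ideal.span {ϖ})
    (p : X ⟶ Spec (CommRingCat.of R)) (g : C ⟶ Spec (CommRingCat.of k)) (j : C ⟶ X) [IsAffineHom j]
    (hj : j ≫ p = g ≫ Spec.map (CommRingCat.ofHom π)) {ι : Type u} (V : ι → X.Opens)
    (hV : ∀ i, IsAffineOpen (V i)) (hcov : ⨆ i, V i = ⊤) (hs : ∀ i, Function.Surjective (j.app (V i)).hom)
    (hk : ∀ i, RingHom.ker (j.app (V i)).hom = Ideal.span {(p.appLE ⊤ (V i) le_top).hom
      ((Scheme.ΓSpecIso (CommRingCat.of R)).inv.hom ϖ)}) :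
    IsPullback j g p (Spec.map (CommRingCat.ofHom π)) := by
  let 𝒰 : X.OpenCover := X.openCoverOfIsOpenCover V hcov
  refine Groth.Agent.CalgA.TwoGlue.isPullback_of_cover hj 𝒰
    (fun i : ι => ((j ⁻¹ᵁ V i : C.Opens) : Scheme.{u})) (fun i : ι => (j ⁻¹ᵁ V i).ι) (fun i : ι => j ∣_ V i)
    (fun i : ι => (isPullback_morphismRestrict j (V i)).flip) fun (i : ι) => ?_
  have hV' := (hV i).preimage j
  have hα := specMap_eq p (V i) (hV i)
  have hγ := specMap_eq g (j ⁻¹ᵁ V i) hV'
  refine isPullback_local (CommRingCat.ofHom π) p g j (V i) (hV i) _ _ hα hγ (isPushout_of_surjective _ _ _ _ hπ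
    (hs i) ?_ ?_)
  · apply Spec.map_injective
    rw [Spec.map_comp, hα, Spec.map_comp (CommRingCat.ofHom π), hγ, Category.assoc, ← hj, ← Category.assoc,
      ← Category.assoc]
    congr 1
    have := (hV i).SpecMap_appLE_fromSpec j hV' le_rfl
    rw [← Scheme.Hom.app_eq_appLE] at this
    exact this
  · rw [hk i]
    refine Ideal.span_le.2 ?_
    rintro _ rfl
    exact Ideal.mem_map_of_mem _ (show ϖ ∈ RingHom.ker π by rw [hker]; exact Ideal.mem_span_singleton_self ϖ)

end K130.Fib
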